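import Mathlib.CategoryTheory.Galois.Equivalence
import Mathlib.CategoryTheory.Galois.IsFundamentalgroup
import Mathlib.Topology.Algebra.ClopenNhdofOne

/-!
# Galois categories: toolbox

Objects of a Galois category with fibre functor `F` versus finite sets with `Aut F`-action:
connectedness, morphisms from equivariant maps, split objects, objects with given stabilizer.
-/

set_option linter.style.haveILetI false

universe u v w

open CategoryTheory Limits CategoryTheory.PreGaloisCategory

namespace Groth.Pi1Galois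

variable {C : Type u} [Category.{v} C] [GaloisCategory C] (F : C ⥤ FintypeCat.{w}) [FiberFunctor F]

/-- An equivariant map between fibres comes from a morphism. -/
theorem exists_hom_of_equivariant {X Y : C} (φ : F.obj X → F.obj Y)
    (h : ∀ (σ : Aut F) (x : F.obj X), φ (σ • x) = σ • φ x) :
    ∃ f : X ⟶ Y, ∀ x, F.map f x = φ x := by
  let g : (functorToAction F).obj X ⟶ (functorToAction F).obj Y :=
    { hom := FintypeCat.homMk φ
      comm := fun σ => by
        apply ConcreteCategory.hom_ext
        intro x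
        exact h σ x }
  obtain ⟨f, hf⟩ := (functorToAction F).map_surjective g
  refine ⟨f, fun x => ?_⟩
  have := congrArg Action.Hom.hom hf
  exact ConcreteCategory.congr_hom this x

/-- A morphism bijective on fibres is an isomorphism. -/
theorem isIso_of_bijective_fiber {X Y : C} (f : X ⟶ Y) (h : Function.Bijective (F.map f)) :
    IsIso f := by
  have : IsIso (F.map f) := (ConcreteCategory.isIso_iff_bijective (F.map f)).mpr h
  exact isIso_of_reflects_iso f F

theorem injective_of_mono {X Y : C} (f : X ⟶ Y) [Mono f] : Function.Injective (F.map f) :=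
  ConcreteCategory.injective_of_mono_of_preservesPullback (F.map f)

theorem mono_of_injective {X Y : C} (f : X ⟶ Y) (h : Function.Injective (F.map f)) : Mono f := by
  have : Mono (F.map f) := ConcreteCategory.mono_of_injective _ h
  exact F.mono_of_mono_map this

theorem isConnected_iff (X : C) :
    IsConnected X ↔ Nonempty (F.obj X) ∧ MulAction.IsPretransitive (Aut F) (F.obj X) := by
  constructor
  · intro _
    exact ⟨inferInstance, inferInstance⟩
  · rintro ⟨⟨x⟩, ht⟩
    refine ⟨not_initial_of_inhabited F x, fun Y i _ hY => ?_⟩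
    obtain ⟨y⟩ := (not_initial_iff_fiber_nonempty F Y).mp hY
    refine isIso_of_bijective_fiber F i ⟨injective_of_mono F i, fun x' => ?_⟩
    obtain ⟨σ, hσ⟩ := ht.exists_smul_eq (F.map i y) x'
    refine ⟨σ • y, ?_⟩
    rw [← mulAction_naturality, hσ]

/-- A morphism from a connected object with prescribed value at a point. -/
theorem exists_hom_of_stabilizer_le {X Y : C} [IsConnected Y] (y : F.obj Y) (x : F.obj X)
    (h : MulAction.stabilizer (Aut F) y ≤ MulAction.stabilizer (Aut F) x) :
    ∃ f : Y ⟶ X, F.map f y = x := by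
  have ht : MulAction.IsPretransitive (Aut F) (F.obj Y) := inferInstance
  choose τ hτ using fun y' => ht.exists_smul_eq y y'
  have key : ∀ σ : Aut F, τ (σ • y) • x = σ • x := by
    intro σ
    have : (σ⁻¹ * τ (σ • y)) • x = x := by
      apply h
      rw [MulAction.mem_stabilizer_iff, mul_smul, hτ, inv_smul_smul]
    rw [mul_smul] at this
    exact inv_smul_eq_iff.mp this
  obtain ⟨f, hf⟩ := exists_hom_of_equivariant F (fun y' => τ y' • x) (by
    intro σ y'
    obtain ⟨ρ, rfl⟩ := ht.exists_smul_eq y y'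
    rw [smul_smul, key, key, mul_smul])
  refine ⟨f, ?_⟩
  have h1 := key 1
  rw [one_smul, one_smul] at h1
  exact (hf y).trans h1

/-- Any action on a finite type with open stabilizers is realised by an object. -/
theorem exists_obj_of_action (V : Type w) [Finite V] [MulAction (Aut F) V]
    (h : ∀ a : V, IsOpen (MulAction.stabilizer (Aut F) a : Set (Aut F))) :
    ∃ (X : C) (e : F.obj X ≃ V), ∀ (σ : Aut F) (x : F.obj X), e (σ • x) = σ • e x := by
  letI : Fintype V := Fintype.ofFinite V
  letI : MulAction (Aut F) (FintypeCat.of V) := (inferInstance : MulAction (Aut F) V)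
  let A : Action FintypeCat.{w} (Aut F) := Action.FintypeCat.ofMulAction (Aut F) (FintypeCat.of V)
  open scoped FintypeCatDiscrete in
  have hc : A.IsContinuous := by
    haveI : DiscreteTopology ((forget₂ _ TopCat).obj A) := ⟨rfl⟩
    exact continuousSMul_iff_stabilizer_isOpen.mpr h
  open scoped FintypeCatDiscrete in
  obtain ⟨X, ⟨i⟩⟩ := Functor.EssSurj.mem_essImage (F := functorToContAction F) ⟨A, hc⟩
  let j : (functorToAction F).obj X ≅ A := (ObjectProperty.ι _).mapIso i
  refine ⟨X, FintypeCat.equivEquivIso.symm ((Action.forget _ _).mapIso j), fun σ x => ?_⟩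
  exact ConcreteCategory.congr_hom (j.hom.comm σ) x

/-- Every open subgroup is the stabilizer of a point of a connected object. -/
theorem exists_connected_stabilizer_eq (U : Subgroup (Aut F)) (hU : IsOpen (U : Set (Aut F))) :
    ∃ (X : C) (_ : IsConnected X) (a : F.obj X), MulAction.stabilizer (Aut F) a = U := by
  haveI : Finite (Aut F ⧸ U) := U.quotient_finite_of_isOpen hU
  obtain ⟨n, ⟨e⟩⟩ := Finite.exists_equiv_fin (Aut F ⧸ U)
  let e' : ULift.{w} (Fin n) ≃ (Aut F ⧸ U) := Equiv.ulift.trans e.symm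
  letI := e'.mulAction (Aut F)
  have hs : ∀ (σ : Aut F) (b : ULift.{w} (Fin n)), e' (σ • b) = σ • e' b := fun σ b =>
    e'.apply_symm_apply _
  have hst : ∀ b, MulAction.stabilizer (Aut F) b = MulAction.stabilizer (Aut F) (e' b) := by
    intro b
    ext σ
    simp only [MulAction.mem_stabilizer_iff]
    rw [← hs]
    exact e'.injective.eq_iff.symm
  obtain ⟨X, d, hd⟩ := exists_obj_of_action F (ULift.{w} (Fin n)) (by
    intro b
    rw [hst b]
    obtain ⟨g, hg⟩ := QuotientGroup.mk_surjective (e' b)
    rw [← hg]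
    have : (MulAction.stabilizer (Aut F) (g : Aut F ⧸ U) : Set (Aut F))
        = (fun σ => g⁻¹ * σ * g) ⁻¹' (U : Set (Aut F)) := by
      ext σ
      simp only [SetLike.mem_coe, MulAction.mem_stabilizer_iff, Set.mem_preimage]
      rw [eq_comm (b := (g : Aut F ⧸ U))]
      change ((g : Aut F ⧸ U) = ((σ * g : Aut F) : Aut F ⧸ U)) ↔ _
      rw [QuotientGroup.eq, mul_assoc]
    rw [this]
    exact hU.preimage (by fun_prop))
  let a : F.obj X := d.symm (e'.symm ((1 : Aut F) : Aut F ⧸ U))
  have hd' : ∀ (σ : Aut F) (x : F.obj X), e' (d (σ • x)) = σ • e' (d x) := fun σ x => by rw [hd, hs]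
  have ha : e' (d a) = ((1 : Aut F) : Aut F ⧸ U) := by simp [a]
  have hconn : IsConnected X := by
    refine (isConnected_iff F X).mpr ⟨⟨a⟩, ⟨fun x y => ?_⟩⟩
    obtain ⟨σ, hσ⟩ := MulAction.exists_smul_eq (Aut F) (e' (d x)) (e' (d y))
    exact ⟨σ, d.injective (e'.injective (by rw [hd', hσ]))⟩
  refine ⟨X, hconn, a, ?_⟩
  ext σ
  rw [MulAction.mem_stabilizer_iff, ← d.injective.eq_iff, ← e'.injective.eq_iff, hd', ha]
  change ((σ * 1 : Aut F) : Aut F ⧸ U) = _ ↔ _
  rw [mul_one, eq_comm, QuotientGroup.eq, inv_one, one_mul]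

/-- The fibre of a terminal object is a point. -/
@[instance_reducible]
noncomputable def terminalPointUnique : Unique (F.obj (⊤_ C)) :=
  have h : IsTerminal (F.obj (⊤_ C)) := IsTerminal.isTerminalObj F _ terminalIsTerminal
  have h' : IsTerminal (FintypeCat.incl.{w}.obj (F.obj (⊤_ C))) :=
    IsTerminal.isTerminalObj FintypeCat.incl.{w} _ h
  Types.isTerminalEquivUnique _ h'

theorem fixed_iff_exists_section (X : C) (x : F.obj X) :
    (∀ σ : Aut F, σ • x = x) ↔ ∃ s : ⊤_ C ⟶ X, ∀ t : F.obj (⊤_ C), F.map s t = x := by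
  letI := terminalPointUnique F
  constructor
  · intro h
    exact exists_hom_of_equivariant F (fun _ : F.obj (⊤_ C) => x) (fun σ _ => (h σ).symm)
  · rintro ⟨s, hs⟩ σ
    conv_lhs => rw [← hs default]
    rw [mulAction_naturality]
    exact hs _

/-- Split objects are those with trivial action on the fibre. -/
theorem split_iff (Y : C) :
    (∃ n : ℕ, Nonempty (Y ≅ ∐ fun _ : Fin n => ⊤_ C)) ↔
      ∀ (σ : Aut F) (y : F.obj Y), σ • y = y := by
  letI := terminalPointUnique F
  have key : ∀ (n : ℕ) (z : F.obj (∐ fun _ : Fin n => ⊤_ C)),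
      ∃ (i : Fin n) (t : F.obj (⊤_ C)), F.map (Sigma.ι (fun _ : Fin n => ⊤_ C) i) t = z := by
    intro n z
    obtain ⟨⟨i⟩, t, ht⟩ := FintypeCat.jointly_surjective
      (Discrete.functor (fun _ : Fin n => ⊤_ C) ⋙ F) _
      (isColimitOfPreserves F (coproductIsCoproduct (fun _ : Fin n => ⊤_ C))) z
    exact ⟨i, t, ht⟩
  constructor
  · rintro ⟨n, ⟨e⟩⟩ σ y
    obtain ⟨i, t, ht⟩ := key n (F.map e.hom y)
    have hy : F.map e.hom (σ • y) = F.map e.hom y := by
      rw [← mulAction_naturality, ← ht, mulAction_naturality, Subsingleton.elim (σ • t) t]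
    exact ((ConcreteCategory.isIso_iff_bijective (F.map e.hom)).mp inferInstance).1 hy
  · intro h
    obtain ⟨n, ⟨e⟩⟩ := Finite.exists_equiv_fin (F.obj Y)
    choose s hs using fun i : Fin n =>
      exists_hom_of_equivariant F (fun _ : F.obj (⊤_ C) => e.symm i) (fun σ _ => (h σ _).symm)
    refine ⟨n, ⟨?_⟩⟩
    have hd : ∀ i t, F.map (Sigma.desc s) (F.map (Sigma.ι (fun _ : Fin n => ⊤_ C) i) t) = e.symm i := by
      intro i t
      rw [← FintypeCat.comp_apply, ← F.map_comp, Sigma.ι_desc]
      exact hs i t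
    have : IsIso (Sigma.desc s : (∐ fun _ : Fin n => ⊤_ C) ⟶ Y) := by
      refine isIso_of_bijective_fiber F _ ⟨fun a b hab => ?_, fun y => ?_⟩
      · obtain ⟨i, t, rfl⟩ := key n a
        obtain ⟨j, t', rfl⟩ := key n b
        rw [hd, hd] at hab
        rw [e.symm.injective hab, Subsingleton.elim t t']
      · exact ⟨F.map (Sigma.ι (fun _ : Fin n => ⊤_ C) (e y)) default, by rw [hd, e.symm_apply_apply]⟩
    exact (asIso (Sigma.desc s)).symm

/-- Points of a fibre of a finite product. -/
theorem exists_pi_fiber_eq {ι : Type*} [Finite ι] (X : ι → C) (x : ∀ i, F.obj (X i)) :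
    ∃ z : F.obj (∏ᶜ X), ∀ i, F.map (Pi.π X i) z = x i := by
  let is₁ : F.obj (∏ᶜ X) ≅ ∏ᶜ fun i => F.obj (X i) := PreservesProduct.iso F X
  let is₂ : (∏ᶜ fun i => F.obj (X i) : FintypeCat) ≃ ∀ i, F.obj (X i) :=
    Limits.FintypeCat.productEquiv (fun i => F.obj (X i))
  refine ⟨is₁.inv (is₂.symm x), fun i => ?_⟩
  simp only [is₁, is₂, ← piComparison_comp_π, ← PreservesProduct.iso_hom, FintypeCat.comp_apply]
  rw [FintypeCat.inv_hom_id_apply, FintypeCat.productEquiv_symm_comp_π_apply]

/-- A closed subgroup contains an element as soon as every open overgroup does. -/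
theorem mem_of_forall_open {G : Type*} [Group G] [TopologicalSpace G] [IsTopologicalGroup G]
    [CompactSpace G] [TotallyDisconnectedSpace G] {H : Subgroup G} (hH : IsClosed (H : Set G))
    {g : G} (h : ∀ U : Subgroup G, IsOpen (U : Set G) → H ≤ U → g ∈ U) : g ∈ H := by
  have := ProfiniteGrp.closedSubgroup_eq_sInf_open (G := G) ⟨H, hH⟩
  rw [show H = (⟨H, hH⟩ : ClosedSubgroup G).toSubgroup from rfl, this, Subgroup.mem_sInf]
  intro K hK
  exact h K hK.1 hK.2

end Groth.Pi1Galois
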