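import Groth.Agent.Pi1Galois.Basic
import Mathlib.CategoryTheory.CofilteredSystem
import Mathlib.CategoryTheory.Limits.Constructions.EpiMono
import Mathlib.CategoryTheory.Limits.Constructions.FiniteProductsOfBinaryProducts

/-!
# Uniqueness of fibre functors
-/

set_option linter.style.haveILetI false
set_option linter.unusedSectionVars false

universe u v w

open CategoryTheory Limits CategoryTheory.PreGaloisCategory
open CategoryTheory.PreGaloisCategory.PointedGaloisObject (hom_ext)

namespace Groth.Pi1Galois

variable {C : Type u} [Category.{v} C] [GaloisCategory C] (F : C ⥤ FintypeCat.{w}) [FiberFunctor F]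

theorem isCofilteredOrEmpty : IsCofilteredOrEmpty (PointedGaloisObject F) where
  cone_objs := fun ⟨A, a, _⟩ ⟨B, b, _⟩ => by
    obtain ⟨Z, f, z, hgal, hfz⟩ := exists_hom_from_galois_of_fiber F (A ⨯ B)
      <| (fiberBinaryProductEquiv F A B).symm (a, b)
    refine ⟨⟨Z, z, hgal⟩, ⟨f ≫ prod.fst, ?_⟩, ⟨f ≫ prod.snd, ?_⟩, trivial⟩
    · simp only [F.map_comp, hfz, FintypeCat.comp_apply, fiberBinaryProductEquiv_symm_fst_apply]
    · simp only [F.map_comp, hfz, FintypeCat.comp_apply, fiberBinaryProductEquiv_symm_snd_apply]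
  cone_maps := fun ⟨A, a, _⟩ ⟨B, b, _⟩ ⟨f, hf⟩ ⟨g, hg⟩ => by
    obtain ⟨Z, h, z, hgal, hhz⟩ := exists_hom_from_galois_of_fiber F A a
    refine ⟨⟨Z, z, hgal⟩, ⟨h, hhz⟩, hom_ext ?_⟩
    apply evaluation_injective_of_isConnected F Z B z
    simp [hhz, hf, hg]

/-- A functor to finite sets preserving finite limits and binary coproducts and nonempty on
non-initial objects is isomorphic to the fibre functor. -/
theorem nonempty_iso_of_preserves (F' : C ⥤ FintypeCat.{w}) [PreservesFiniteLimits F']
    [PreservesColimitsOfShape (Discrete WalkingPair) F']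
    (h : ∀ X : C, IsEmpty (F'.obj X) → Nonempty (IsInitial X)) : Nonempty (F' ≅ F) := by
  have hne : ∀ X : C, (IsInitial X → False) → Nonempty (F'.obj X) := fun X hX =>
    not_isEmpty_iff.mp fun hemp => (h X hemp).elim hX
  haveI := isCofilteredOrEmpty F
  -- empty on initial objects
  have hinit : ∀ X : C, IsInitial X → IsEmpty (F'.obj X) := by
    intro X hX
    have hc : IsColimit (BinaryCofan.mk (𝟙 X) (𝟙 X)) := BinaryCofan.IsColimit.mk _
      (fun f _ => f) (fun f g => Category.id_comp f) (fun f g => hX.hom_ext _ _)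
      (fun f g m h1 _ => (Category.id_comp m).symm.trans h1)
    have hc' := isColimitOfPreserves (F' ⋙ FintypeCat.incl) hc
    refine ⟨fun x => ?_⟩
    have h2 := (Types.binaryCofan_isColimit_iff _).mp
      ⟨(isColimitMapCoconeBinaryCofanEquiv (F' ⋙ FintypeCat.incl) (𝟙 X) (𝟙 X)) hc'⟩
    have h3 := h2.2.2.1
    have : x ∈ Set.range (ConcreteCategory.hom ((F' ⋙ FintypeCat.incl).map (𝟙 X))) := ⟨x, by simp⟩
    exact Set.disjoint_left.mp h3 this this
  haveI : PreservesColimit (Functor.empty.{0} C) F' := by
    refine preservesColimit_of_preserves_colimit_cocone (initialIsInitial (C := C)) ?_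
    exact (isColimitMapCoconeEmptyCoconeEquiv F' _).symm
      ((Concrete.initial_iff_empty_of_preserves_of_reflects _).mpr (hinit _ initialIsInitial)).some
  haveI := preservesColimitsOfShape_pempty_of_preservesInitial F'
  haveI : PreservesFiniteCoproducts F' :=
    ⟨fun _ => PreservesFiniteCoproducts.of_preserves_binary_and_initial F' _⟩
  -- a compatible family of points on Galois objects
  let G : PointedGaloisObject F ⥤ Type w := PointedGaloisObject.incl F ⋙ F' ⋙ FintypeCat.incl
  haveI : ∀ A, Finite (G.obj A) := fun A => inferInstanceAs (Finite (F'.obj A.obj))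
  haveI : ∀ A, Nonempty (G.obj A) := fun A => by
    haveI := A.isGalois
    exact hne A.obj IsConnected.notInitial
  obtain ⟨s, hs⟩ := nonempty_sections_of_finite_cofiltered_system G
  choose A f a hA hfa using fun (X : C) (x : F.obj X) => exists_hom_from_galois_of_fiber F X x
  let η : ∀ X : C, F.obj X → F'.obj X := fun X x => F'.map (f X x) (s ⟨A X x, a X x, hA X x⟩)
  -- the value does not depend on the chosen representative
  have hwd : ∀ (X : C) (B : PointedGaloisObject F) (g : B.obj ⟶ X),
      η X (F.map g B.pt) = F'.map g (s B) := by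
    intro X B g
    let A₀ : PointedGaloisObject F :=
      ⟨A X (F.map g B.pt), a X (F.map g B.pt), hA X (F.map g B.pt)⟩
    obtain ⟨D, p, q, -⟩ := IsCofilteredOrEmpty.cone_objs A₀ B
    haveI := D.isGalois
    have heq : p.val ≫ f X (F.map g B.pt) = q.val ≫ g := by
      apply evaluation_injective_of_isConnected F D.obj X D.pt
      simp only [F.map_comp, FintypeCat.comp_apply]
      rw [p.comp, q.comp]
      exact hfa X _
    show F'.map (f X (F.map g B.pt)) (s A₀) = F'.map g (s B)
    rw [← hs p, ← hs q]
    show (F'.map p.val ≫ F'.map _) (s D) = (F'.map q.val ≫ F'.map g) (s D)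
    rw [← F'.map_comp, ← F'.map_comp, heq]
  have hbij : ∀ X : C, Function.Bijective (η X) := by
    intro X
    obtain ⟨B, b, hB, hb⟩ := exists_galois_representative F X
    haveI := hB
    have hval : ∀ g : B ⟶ X, η X (F.map g b) = F'.map g (s ⟨B, b, hB⟩) := fun g => hwd X ⟨B, b, hB⟩ g
    have hinj : Function.Injective (fun g : B ⟶ X => F'.map g (s ⟨B, b, hB⟩)) := by
      intro g g' hgg
      let G' := F' ⋙ FintypeCat.incl
      have hlim := isLimitForkMapOfIsLimit G' (equalizer.condition g g') (equalizerIsEqualizer g g')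
      obtain ⟨z, -⟩ := (Types.type_equalizer_iff_unique _ (by
        have := congrArg G'.map (equalizer.condition g g')
        simpa only [Functor.map_comp] using this)).mp ⟨hlim⟩ (s ⟨B, b, hB⟩) hgg
      have : IsIso (equalizer.ι g g') :=
        IsConnected.noTrivialComponent _ (equalizer.ι g g') fun hi => (hinit _ hi).false z
      exact eq_of_epi_equalizer
    -- `B ⨯ X` is a sum of copies of `B` indexed by `B ⟶ X`
    haveI : Finite (B ⟶ X) := inferInstance
    letI : Fintype (B ⟶ X) := Fintype.ofFinite _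
    let φ : (∐ fun _ : (B ⟶ X) => B) ⟶ B ⨯ X := Sigma.desc fun g => prod.lift (𝟙 B) g
    haveI : IsIso φ := by
      refine isIso_of_bijective_fiber F φ ?_
      have hφ : ∀ (g : B ⟶ X) (α : F.obj B), fiberBinaryProductEquiv F B X
          (F.map φ (F.map (Sigma.ι (fun _ : (B ⟶ X) => B) g) α)) = (α, F.map g α) := by
        intro g α
        rw [← FintypeCat.comp_apply, ← F.map_comp, Sigma.ι_desc]
        obtain ⟨pq, hpq⟩ := (fiberBinaryProductEquiv F B X).symm.surjective (F.map (prod.lift (𝟙 B) g) α)
        rw [← hpq, Equiv.apply_symm_apply]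
        have h1 := congrArg (F.map (prod.fst : B ⨯ X ⟶ B)) hpq
        have h2 := congrArg (F.map (prod.snd : B ⨯ X ⟶ X)) hpq
        rw [fiberBinaryProductEquiv_symm_fst_apply, ← FintypeCat.comp_apply, ← F.map_comp,
          prod.lift_fst, F.map_id, FintypeCat.id_apply] at h1
        rw [fiberBinaryProductEquiv_symm_snd_apply, ← FintypeCat.comp_apply, ← F.map_comp,
          prod.lift_snd] at h2
        exact Prod.ext h1 h2
      have hrep : ∀ z, ∃ (g : B ⟶ X) (α : F.obj B),
          F.map (Sigma.ι (fun _ : (B ⟶ X) => B) g) α = z := by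
        intro z
        obtain ⟨⟨g⟩, t, ht⟩ := FintypeCat.jointly_surjective
          (Discrete.functor (fun _ : (B ⟶ X) => B) ⋙ F) _
          (isColimitOfPreserves F (coproductIsCoproduct (fun _ : (B ⟶ X) => B))) z
        exact ⟨g, t, ht⟩
      have hev : ∀ α : F.obj B, Function.Bijective (fun g : B ⟶ X => F.map g α) := by
        intro α
        refine ⟨evaluation_injective_of_isConnected F B X α, ?_⟩
        intro y
        obtain ⟨σ, hσ⟩ := MulAction.exists_smul_eq (Aut B) α b
        obtain ⟨g, hg⟩ := hb.surjective y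
        refine ⟨σ.hom ≫ g, ?_⟩
        show F.map (σ.hom ≫ g) α = y
        rw [F.map_comp, FintypeCat.comp_apply]
        exact (congrArg (F.map g) hσ).trans hg
      constructor
      · intro z z' hzz
        obtain ⟨g, α, rfl⟩ := hrep z
        obtain ⟨g', α', rfl⟩ := hrep z'
        have := congrArg (fiberBinaryProductEquiv F B X) hzz
        rw [hφ, hφ, Prod.mk.injEq] at this
        obtain ⟨rfl, h2⟩ := this
        rw [(hev α).1 h2]
      · intro z
        obtain ⟨g, hg⟩ := (hev (fiberBinaryProductEquiv F B X z).1).2 (fiberBinaryProductEquiv F B X z).2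
        exact ⟨F.map (Sigma.ι (fun _ : (B ⟶ X) => B) g) (fiberBinaryProductEquiv F B X z).1,
          (fiberBinaryProductEquiv F B X).injective ((hφ g _).trans (Prod.ext rfl hg))⟩
    have hsurj : Function.Surjective (fun g : B ⟶ X => F'.map g (s ⟨B, b, hB⟩)) := by
      intro y
      let G' := F' ⋙ FintypeCat.incl
      let zb : G'.obj (B ⨯ X) := (PreservesLimitPair.iso G' B X ≪≫
        Types.binaryProductIso (G'.obj B) (G'.obj X)).inv (s ⟨B, b, hB⟩, y)
      have hz1 : F'.map prod.fst zb = s ⟨B, b, hB⟩ := by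
        change ((PreservesLimitPair.iso G' B X ≪≫
          Types.binaryProductIso (G'.obj B) (G'.obj X)).inv ≫ G'.map prod.fst) _ = _
        simp only [Iso.trans_inv, Category.assoc]
        erw [PreservesLimitPair.iso_inv_fst, Types.binaryProductIso_inv_comp_fst]
        rfl
      have hz2 : F'.map prod.snd zb = y := by
        change ((PreservesLimitPair.iso G' B X ≪≫
          Types.binaryProductIso (G'.obj B) (G'.obj X)).inv ≫ G'.map prod.snd) _ = _
        simp only [Iso.trans_inv, Category.assoc]
        erw [PreservesLimitPair.iso_inv_snd, Types.binaryProductIso_inv_comp_snd]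
        rfl
      obtain ⟨w', hw'⟩ := ((ConcreteCategory.isIso_iff_bijective (F'.map φ)).mp inferInstance).2 zb
      obtain ⟨⟨g⟩, t, ht⟩ := FintypeCat.jointly_surjective
        (Discrete.functor (fun _ : (B ⟶ X) => B) ⋙ F') _
        (isColimitOfPreserves F' (coproductIsCoproduct (fun _ : (B ⟶ X) => B))) w'
      have hzt : F'.map (prod.lift (𝟙 B) g) t = zb := by
        rw [← hw', ← ht]
        show _ = (F'.map (Sigma.ι (fun _ : (B ⟶ X) => B) g) ≫ F'.map φ) t
        rw [← F'.map_comp, Sigma.ι_desc]
      rw [← hzt, ← FintypeCat.comp_apply, ← F'.map_comp, prod.lift_fst, F'.map_id,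
        FintypeCat.id_apply] at hz1
      rw [← hzt, ← FintypeCat.comp_apply, ← F'.map_comp, prod.lift_snd, hz1] at hz2
      exact ⟨g, hz2⟩
    constructor
    · intro x x' hxx
      obtain ⟨g, rfl⟩ := hb.surjective x
      obtain ⟨g', rfl⟩ := hb.surjective x'
      rw [hval, hval] at hxx
      rw [hinj hxx]
    · intro y
      obtain ⟨g, hg⟩ := hsurj y
      exact ⟨F.map g b, (hval g).trans hg⟩
  refine ⟨(NatIso.ofComponents (fun X => FintypeCat.equivEquivIso (Equiv.ofBijective _ (hbij X)))
    (fun {X Y} g => ?_)).symm⟩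
  apply ConcreteCategory.hom_ext
  intro x
  obtain ⟨B, f₀, b, hB, rfl⟩ := exists_hom_from_galois_of_fiber F X x
  show η Y (F.map g (F.map f₀ b)) = F'.map g (η X (F.map f₀ b))
  have h1 := hwd X ⟨B, b, hB⟩ f₀
  have h2 := hwd Y ⟨B, b, hB⟩ (f₀ ≫ g)
  rw [h1]
  rw [F.map_comp, FintypeCat.comp_apply, F'.map_comp] at h2
  exact h2

theorem nonempty_iso_of_exact (F' : C ⥤ FintypeCat.{w}) [PreservesFiniteLimits F']
    [PreservesFiniteColimits F'] : Nonempty (F' ≅ F) := by
  refine nonempty_iso_of_preserves F F' fun X hX => ?_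
  by_contra hne
  rw [initial_iff_fiber_empty F, not_isEmpty_iff] at hne
  haveI : IsConnected (⊤_ C) := (isConnected_iff F _).mpr
    ⟨⟨(terminalPointUnique F).default⟩, ⟨fun x y => ⟨1, @Subsingleton.elim _
      (@Unique.instSubsingleton _ (terminalPointUnique F)) _ _⟩⟩⟩
  haveI := hne
  haveI : Epi (terminal.from X) := epi_of_nonempty_of_isConnected F _
  haveI : Epi (FintypeCat.incl.map (F'.map (terminal.from X))) := inferInstance
  have hsurj := surjective_of_epi (FintypeCat.incl.map (F'.map (terminal.from X)))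
  have ht : IsTerminal (F'.obj (⊤_ C)) := IsTerminal.isTerminalObj F' _ terminalIsTerminal
  have := Types.isTerminalEquivUnique _ (IsTerminal.isTerminalObj FintypeCat.incl.{w} _ ht)
  obtain ⟨z, -⟩ := hsurj this.default
  exact hX.false z

end Groth.Pi1Galois
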