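import Groth.Agent.Pi1Galois.Basic
import Groth.Prelude.Def_Pi1X

/-!
# Exact functors of Galois categories and the induced maps of fundamental groups
-/

set_option linter.style.haveILetI false
set_option linter.unusedSectionVars false

universe u v w

open CategoryTheory Limits CategoryTheory.PreGaloisCategory

namespace Groth.Pi1Galois

section Two

variable {C C' : Type u} [Category.{v} C] [Category.{v} C'] [GaloisCategory C] [GaloisCategory C']
  (H : C ⥤ C') (F' : C' ⥤ FintypeCat.{w})

theorem autWhisker_smul (σ : Aut F') (X : C) (x : (H ⋙ F').obj X) :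
    (Pi1X.autWhisker H F' σ) • x = (σ • (show F'.obj (H.obj X) from x) : F'.obj (H.obj X)) := rfl

variable [FiberFunctor F'] [FiberFunctor (H ⋙ F')]

theorem continuous_autWhisker : Continuous (Pi1X.autWhisker H F') := by
  apply continuous_induced_rng.mpr
  refine continuous_pi fun X => ?_
  exact (continuous_apply (H.obj X)).comp (continuous_induced_dom (f := autEmbedding F'))

theorem isClosed_range_autWhisker : IsClosed ((Pi1X.autWhisker H F').range : Set (Aut (H ⋙ F'))) := by
  rw [MonoidHom.coe_range]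
  exact (isCompact_range (continuous_autWhisker H F')).isClosed

theorem isClosed_ker_autWhisker : IsClosed ((Pi1X.autWhisker H F').ker : Set (Aut F')) := by
  have : ((Pi1X.autWhisker H F').ker : Set (Aut F')) = Pi1X.autWhisker H F' ⁻¹' {1} := by
    ext σ
    rfl
  rw [this]
  exact isClosed_singleton.preimage (continuous_autWhisker H F')

/-- The induced map is surjective iff `H` preserves connected objects. -/
theorem surjective_iff_preserves_connected :
    Function.Surjective (Pi1X.autWhisker H F') ↔ ∀ X : C, IsConnected X → IsConnected (H.obj X) := by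
  constructor
  · intro hs X hX
    obtain ⟨hne, ht⟩ := (isConnected_iff (H ⋙ F') X).mp hX
    refine (isConnected_iff F' (H.obj X)).mpr ⟨hne, ⟨fun x y => ?_⟩⟩
    obtain ⟨τ, hτ⟩ := ht.exists_smul_eq x y
    obtain ⟨σ, rfl⟩ := hs τ
    exact ⟨σ, hτ⟩
  · intro h
    intro τ
    let R : Subgroup (Aut (H ⋙ F')) := (Pi1X.autWhisker H F').range
    have : τ ∈ R := by
      refine mem_of_forall_open (isClosed_range_autWhisker H F') fun U hU hle => ?_
      obtain ⟨X, hX, a, rfl⟩ := exists_connected_stabilizer_eq (H ⋙ F') U hU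
      obtain ⟨-, ht⟩ := (isConnected_iff F' (H.obj X)).mp (h X hX)
      obtain ⟨σ, hσ⟩ := ht.exists_smul_eq a (τ • a)
      have h1 : (Pi1X.autWhisker H F' σ) • a = a :=
        MulAction.mem_stabilizer_iff.mp (hle ⟨σ, rfl⟩)
      rw [MulAction.mem_stabilizer_iff]
      exact hσ.symm.trans h1
    obtain ⟨σ, hσ⟩ := this
    exact ⟨σ, hσ⟩

include F' in
theorem faithful_of_fiberFunctor_comp : H.Faithful := by
  haveI : (H ⋙ F').Faithful := inferInstance
  exact Functor.Faithful.of_comp H F'

theorem full_of_surjective (hs : Function.Surjective (Pi1X.autWhisker H F')) : H.Full where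
  map_surjective {X Y} f := by
    obtain ⟨g, hg⟩ := exists_hom_of_equivariant (H ⋙ F') (fun x => F'.map f x) (by
      intro τ x
      obtain ⟨σ, rfl⟩ := hs τ
      exact (mulAction_naturality F' σ f x).symm)
    exact ⟨g, F'.map_injective (ConcreteCategory.hom_ext _ _ hg)⟩

include F' in
/-- A fully faithful exact functor preserves connected objects. -/
theorem preserves_connected_of_full [H.Full] (X : C) (hX : IsConnected X) :
    IsConnected (H.obj X) := by
  obtain ⟨hne, ht⟩ := (isConnected_iff (H ⋙ F') X).mp hX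
  refine (isConnected_iff F' (H.obj X)).mpr ⟨hne, ⟨fun x y => ?_⟩⟩
  by_contra hxy
  letI : MulAction (Aut (H ⋙ F')) (ULift.{w} Bool) :=
    { smul := fun _ b => b
      one_smul := fun _ => rfl
      mul_smul := fun _ _ _ => rfl }
  obtain ⟨P, e, he⟩ := exists_obj_of_action (H ⋙ F') (ULift.{w} Bool) (fun a => by
    have : (MulAction.stabilizer (Aut (H ⋙ F')) a : Set (Aut (H ⋙ F'))) = Set.univ := by
      ext σ
      simp only [SetLike.mem_coe, MulAction.mem_stabilizer_iff, Set.mem_univ, iff_true]
      rfl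
    rw [this]
    exact isOpen_univ)
  have htriv : ∀ (τ : Aut (H ⋙ F')) (z : (H ⋙ F').obj P), τ • z = z :=
    fun τ z => e.injective (he τ z)
  let z : Bool → (H ⋙ F').obj P := fun i => e.symm ⟨i⟩
  classical
  let χ : F'.obj (H.obj X) → F'.obj (H.obj P) := fun a =>
    if a ∈ MulAction.orbit (Aut F') x then z true else z false
  obtain ⟨f, hf⟩ := exists_hom_of_equivariant F' χ (by
    intro σ a
    have hfix : ∀ i, σ • (show F'.obj (H.obj P) from z i) = z i := fun i =>
      htriv (Pi1X.autWhisker H F' σ) (z i)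
    simp only [χ]
    by_cases ha : a ∈ MulAction.orbit (Aut F') x
    · rw [if_pos ha, if_pos (MulAction.mem_orbit_of_mem_orbit σ ha), hfix]
    · rw [if_neg ha, if_neg, hfix]
      intro h'
      apply ha
      simpa using MulAction.mem_orbit_of_mem_orbit σ⁻¹ h')
  obtain ⟨g, rfl⟩ := H.map_surjective f
  obtain ⟨τ, hτ⟩ := ht.exists_smul_eq x y
  have h1 : (H ⋙ F').map g x = (H ⋙ F').map g y := by
    rw [← hτ, ← mulAction_naturality, htriv]
  have h2 : z true = z false := by
    have hx := hf x
    have hy := hf y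
    simp only [χ] at hx hy
    rw [if_pos (MulAction.mem_orbit_self x)] at hx
    rw [if_neg (show y ∉ MulAction.orbit (Aut F') x from fun h' => hxy h')] at hy
    exact hx.symm.trans (h1.trans hy)
  exact Bool.noConfusion (congrArg ULift.down (e.symm.injective h2))

end Two

end Groth.Pi1Galois

namespace Groth.Pi1Galois

section Two

variable {C C' : Type u} [Category.{v} C] [Category.{v} C'] [GaloisCategory C] [GaloisCategory C']
  (H : C ⥤ C') (F' : C' ⥤ FintypeCat.{w}) [FiberFunctor F'] [FiberFunctor (H ⋙ F')]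

theorem surjective_iff_fullyFaithful :
    Function.Surjective (Pi1X.autWhisker H F') ↔ (H.Full ∧ H.Faithful) := by
  constructor
  · exact fun hs => ⟨full_of_surjective H F' hs, faithful_of_fiberFunctor_comp H F'⟩
  · rintro ⟨_, _⟩
    exact (surjective_iff_preserves_connected H F').mpr (fun X hX => preserves_connected_of_full H F' X hX)

theorem range_le_stabilizer_iff (X : C) (a : (H ⋙ F').obj X) :
    (Pi1X.autWhisker H F').range ≤ MulAction.stabilizer (Aut (H ⋙ F')) a ↔
      ∃ s : ⊤_ C' ⟶ H.obj X, ∀ t : F'.obj (⊤_ C'), F'.map s t = a := by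
  refine Iff.trans ?_ (fixed_iff_exists_section F' (H.obj X) a)
  constructor
  · intro h σ
    exact MulAction.mem_stabilizer_iff.mp (h ⟨σ, rfl⟩)
  · rintro h _ ⟨σ, rfl⟩
    exact MulAction.mem_stabilizer_iff.mpr (h σ)

theorem normalClosure_le_stabilizer_iff (X : C) [IsConnected X] (a : (H ⋙ F').obj X) :
    Subgroup.normalClosure ((Pi1X.autWhisker H F').range : Set (Aut (H ⋙ F'))) ≤
        MulAction.stabilizer (Aut (H ⋙ F')) a ↔
      ∃ n : ℕ, Nonempty (H.obj X ≅ ∐ fun _ : Fin n => ⊤_ C') := by
  rw [split_iff F' (H.obj X)]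
  constructor
  · intro h σ b
    obtain ⟨τ, rfl⟩ := MulAction.exists_smul_eq (Aut (H ⋙ F')) a (show (H ⋙ F').obj X from b)
    have hm : τ⁻¹ * Pi1X.autWhisker H F' σ * τ⁻¹⁻¹ ∈ MulAction.stabilizer (Aut (H ⋙ F')) a :=
      h (Subgroup.normalClosure_normal.conj_mem _ (Subgroup.subset_normalClosure (show Pi1X.autWhisker H F' σ ∈ ((Pi1X.autWhisker H F').range : Set (Aut (H ⋙ F'))) from ⟨σ, rfl⟩)) τ⁻¹)
    rw [inv_inv, MulAction.mem_stabilizer_iff, mul_smul, mul_smul, inv_smul_eq_iff] at hm
    exact hm
  · intro h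
    have h2 : Subgroup.normalClosure ((Pi1X.autWhisker H F').range : Set (Aut (H ⋙ F'))) ≤
        (MulAction.toPermHom (Aut (H ⋙ F')) ((H ⋙ F').obj X)).ker := by
      apply Subgroup.normalClosure_le_normal
      rintro _ ⟨σ, rfl⟩
      exact Equiv.ext fun b => h σ b
    intro g hg
    exact MulAction.mem_stabilizer_iff.mpr (Equiv.ext_iff.mp (h2 hg) a)

theorem mem_ker_autWhisker_iff (σ : Aut F') :
    σ ∈ (Pi1X.autWhisker H F').ker ↔ ∀ (X : C) (x : F'.obj (H.obj X)), σ • x = x := by
  constructor
  · intro h X x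
    have := congrArg (fun τ : Aut (H ⋙ F') => τ • (show (H ⋙ F').obj X from x)) h
    exact this.trans (one_smul _ _)
  · intro h
    exact IsFundamentalGroup.non_trivial (F := H ⋙ F') _ (fun X x => h X x)

theorem stabilizer_le_of_hom {X Y : C'} [IsConnected Y] (q : Y ⟶ X) (y : F'.obj Y) :
    MulAction.stabilizer (Aut F') y ≤ MulAction.stabilizer (Aut F') (F'.map q y) := by
  intro σ hσ
  rw [MulAction.mem_stabilizer_iff] at hσ ⊢
  rw [mulAction_naturality, hσ]

/-- The kernel of the induced map fixes all of the fibre of `X'` when a subobject of some `H X`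
maps onto `X'` on fibres. -/
theorem ker_fixes_of_dominated {X : C} {Y' X' : C'} (i : Y' ⟶ H.obj X) [Mono i] (q : Y' ⟶ X')
    (hq : Function.Surjective (F'.map q)) {σ : Aut F'} (hσ : σ ∈ (Pi1X.autWhisker H F').ker)
    (x : F'.obj X') : σ • x = x := by
  obtain ⟨y, rfl⟩ := hq x
  have : σ • y = y := injective_of_mono F' i (by
    rw [← mulAction_naturality, (mem_ker_autWhisker_iff H F' σ).mp hσ])
  rw [mulAction_naturality, this]

theorem ker_le_stabilizer_iff (X' : C') [IsConnected X'] (a' : F'.obj X') :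
    (Pi1X.autWhisker H F').ker ≤ MulAction.stabilizer (Aut F') a' ↔
      ∃ (X : C) (Y' : C') (i : Y' ⟶ H.obj X) (_ : Y' ⟶ X'), Mono i ∧ IsConnected Y' := by
  constructor
  · intro h
    let U := MulAction.stabilizer (Aut F') a'
    let T : PointedGaloisObject (H ⋙ F') → Set (Aut F') := fun A =>
      Pi1X.autWhisker H F' ⁻¹' (MulAction.stabilizer (Aut (H ⋙ F')) A.pt : Set (Aut (H ⋙ F')))
    have hT : ∀ A, IsClosed (T A) := fun A =>
      (Subgroup.isClosed_of_isOpen _ (stabilizer_isOpen (Aut (H ⋙ F')) A.pt)).preimage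
        (continuous_autWhisker H F')
    have hU : IsClosed (U : Set (Aut F'))ᶜ := (stabilizer_isOpen (Aut F') a').isClosed_compl
    have hemp : (U : Set (Aut F'))ᶜ ∩ ⋂ A, T A = ∅ := by
      ext σ
      simp only [Set.mem_inter_iff, Set.mem_compl_iff, SetLike.mem_coe, Set.mem_iInter,
        Set.mem_empty_iff_false, iff_false, not_and]
      intro hσ hall
      apply hσ
      apply h
      rw [mem_ker_autWhisker_iff]
      intro X x
      obtain ⟨A, f, a, hA, hfa⟩ := exists_hom_from_galois_of_fiber (H ⋙ F') X x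
      have h1 : (Pi1X.autWhisker H F' σ) • a = a := MulAction.mem_stabilizer_iff.mp (hall ⟨A, a, hA⟩)
      have h2 := mulAction_naturality (H ⋙ F') (Pi1X.autWhisker H F' σ) f a
      rw [h1, hfa] at h2
      exact h2
    obtain ⟨s, hs⟩ := hU.isCompact.elim_finite_subfamily_closed T hT hemp
    obtain ⟨A, a, hA, hbij⟩ := exists_galois_representative (H ⋙ F')
      (∏ᶜ fun B : s => (B.1.obj : C))
    obtain ⟨Y', i, y, hy, hY', _⟩ := fiber_in_connected_component F' (H.obj A) a
    obtain ⟨q, -⟩ := exists_hom_of_stabilizer_le F' (Y := Y') (X := X') y a' (by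
      intro σ hσ
      by_contra hσU
      have h1 : (Pi1X.autWhisker H F' σ) • (show (H ⋙ F').obj A from a) = a := by
        show σ • (show F'.obj (H.obj A) from a) = a
        rw [← hy, mulAction_naturality, MulAction.mem_stabilizer_iff.mp hσ]
      have hmem : σ ∈ (U : Set (Aut F'))ᶜ ∩ ⋂ B ∈ s, T B := by
        refine ⟨hσU, Set.mem_iInter₂.mpr fun B hB => ?_⟩
        have : Nonempty ((H ⋙ F').obj B.obj) := inferInstance
        haveI : ∀ B' : s, Nonempty ((H ⋙ F').obj (B'.1.obj : C)) := fun B' => inferInstance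
        obtain ⟨z, hz⟩ := exists_pi_fiber_eq (H ⋙ F') (fun B' : s => (B'.1.obj : C)) (fun B' => B'.1.pt)
        have hz := hz ⟨B, hB⟩
        obtain ⟨f, hf⟩ := hbij.surjective z
        show (Pi1X.autWhisker H F' σ) • B.pt = B.pt
        rw [← hz, ← hf, mulAction_naturality, mulAction_naturality, h1]
      rw [hs] at hmem
      exact hmem)
    exact ⟨A, Y', i, q, inferInstance, hY'⟩
  · rintro ⟨X, Y', i, q, _, _⟩ σ hσ
    exact MulAction.mem_stabilizer_iff.mpr
      (ker_fixes_of_dominated H F' i q (surjective_of_nonempty_fiber_of_isConnected F' q) hσ a')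

end Two

end Groth.Pi1Galois
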