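import Groth.Agent.Pi1Galois.Unique
import Groth.Agent.Pi1Galois.Whisker

/-!
# Exact functors to finite sets are fibre functors
-/

set_option linter.style.haveILetI false
set_option linter.unusedSectionVars false

universe u v w

open CategoryTheory Limits CategoryTheory.PreGaloisCategory

namespace Groth.Pi1Galois

variable {C : Type u} [Category.{v} C] [GaloisCategory C]

/-- A functor isomorphic to a fibre functor is a fibre functor. -/
theorem nonempty_fiberFunctor_of_iso {F F' : C ⥤ FintypeCat.{w}} [FiberFunctor F] (e : F ≅ F') :
    Nonempty (FiberFunctor F') :=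
  ⟨{ preservesTerminalObjects := preservesLimitsOfShape_of_natIso e
     preservesPullbacks := preservesLimitsOfShape_of_natIso e
     preservesFiniteCoproducts := ⟨fun _ => preservesColimitsOfShape_of_natIso e⟩
     preservesEpis := Functor.PreservesEpimorphisms.of_iso e
     preservesQuotientsByFiniteGroups := fun _ _ _ => preservesColimitsOfShape_of_natIso e
     reflectsIsos := reflectsIsomorphisms_of_iso e }⟩

/-- An exact functor between Galois categories, composed with a fibre functor, is a fibre functor. -/
theorem fiberFunctor_comp_of_exact {D : Type u} [Category.{v} D] [GaloisCategory D]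
    (H : C ⥤ D) [PreservesFiniteLimits H] [PreservesFiniteColimits H] :
    Nonempty (FiberFunctor (H ⋙ GaloisCategory.getFiberFunctor D)) := by
  let F' := GaloisCategory.getFiberFunctor D
  haveI : PreservesFiniteLimits (H ⋙ F') := comp_preservesFiniteLimits H F'
  haveI : PreservesFiniteCoproducts (H ⋙ F') := inferInstance
  obtain ⟨e⟩ := nonempty_iso_of_preserves (GaloisCategory.getFiberFunctor C) (H ⋙ F') fun X hX => by
    by_contra hne
    rw [initial_iff_fiber_empty (GaloisCategory.getFiberFunctor C), not_isEmpty_iff] at hne
    haveI := hne
    haveI : IsConnected (⊤_ C) := by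
      letI := terminalPointUnique (GaloisCategory.getFiberFunctor C)
      exact (isConnected_iff (GaloisCategory.getFiberFunctor C) _).mpr
        ⟨⟨default⟩, ⟨fun x y => ⟨1, Subsingleton.elim _ _⟩⟩⟩
    haveI : Epi (terminal.from X) :=
      epi_of_nonempty_of_isConnected (GaloisCategory.getFiberFunctor C) _
    haveI : Epi ((H ⋙ F').map (terminal.from X)) :=
      inferInstanceAs (Epi (F'.map (H.map (terminal.from X))))
    haveI : Epi (FintypeCat.incl.map ((H ⋙ F').map (terminal.from X))) := inferInstance
    have hsurj := surjective_of_epi (FintypeCat.incl.map ((H ⋙ F').map (terminal.from X)))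
    have ht : IsTerminal ((H ⋙ F').obj (⊤_ C)) :=
      IsTerminal.isTerminalObj (H ⋙ F') _ terminalIsTerminal
    have := Types.isTerminalEquivUnique _ (IsTerminal.isTerminalObj FintypeCat.incl.{v} _ ht)
    obtain ⟨z, -⟩ := hsurj this.default
    exact hX.false z
  exact nonempty_fiberFunctor_of_iso e.symm

theorem fullyFaithful_iff_preserves_connected {D : Type u} [Category.{v} D] [GaloisCategory D]
    (H : C ⥤ D) [PreservesFiniteLimits H] [PreservesFiniteColimits H] :
    (H.Full ∧ H.Faithful) ↔
      ∀ X : C, IsConnected X → IsConnected (H.obj X) := by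
  obtain ⟨h⟩ := fiberFunctor_comp_of_exact H
  rw [← surjective_iff_fullyFaithful H (GaloisCategory.getFiberFunctor D),
    surjective_iff_preserves_connected]

end Groth.Pi1Galois
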