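import Groth.Agent.Pi1Galois.Whisker

/-!
# Exactness of sequences of fundamental groups of Galois categories
-/

set_option linter.style.haveILetI false
set_option linter.unusedSectionVars false

universe u v w

open CategoryTheory Limits CategoryTheory.PreGaloisCategory

namespace Groth.Pi1Galois

variable {C C' C'' : Type u} [Category.{v} C] [Category.{v} C'] [Category.{v} C'']
  [GaloisCategory C] [GaloisCategory C'] [GaloisCategory C'']
  (H : C ⥤ C') (H' : C' ⥤ C'') (F'' : C'' ⥤ FintypeCat.{w}) [FiberFunctor F'']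
  [FiberFunctor (H' ⋙ F'')] [FiberFunctor (H ⋙ (H' ⋙ F''))]

theorem comp_trivial_iff :
    (∀ σ : Aut F'', Pi1X.autWhisker H (H' ⋙ F'') (Pi1X.autWhisker H' F'' σ) = 1) ↔
      ∀ X : C, ∃ n : ℕ, Nonempty (H'.obj (H.obj X) ≅ ∐ fun _ : Fin n => ⊤_ C'') := by
  simp only [← MonoidHom.mem_ker, mem_ker_autWhisker_iff]
  constructor
  · intro h X
    exact (split_iff F'' _).mpr fun σ y => h σ X y
  · intro h σ X x
    exact (split_iff F'' _).mp (h X) σ x

theorem ker_le_range_iff :
    (Pi1X.autWhisker H (H' ⋙ F'')).ker ≤ (Pi1X.autWhisker H' F'').range ↔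
      ∀ (X' : C') (a' : (H' ⋙ F'').obj X'), IsConnected X' →
        (∃ s : ⊤_ C'' ⟶ H'.obj X', ∀ t : F''.obj (⊤_ C''), F''.map s t = a') →
          ∃ (X : C) (Y' : C') (i : Y' ⟶ H.obj X) (_ : Y' ⟶ X'), Mono i ∧ IsConnected Y' := by
  constructor
  · intro h X' a' _ hs
    exact (ker_le_stabilizer_iff H (H' ⋙ F'') X' a').mp
      (h.trans ((range_le_stabilizer_iff H' F'' X' a').mpr hs))
  · intro h g hg
    refine mem_of_forall_open (isClosed_range_autWhisker H' F'') fun U hU hle => ?_
    obtain ⟨X', hX', a', rfl⟩ := exists_connected_stabilizer_eq (H' ⋙ F'') U hU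
    exact (ker_le_stabilizer_iff H (H' ⋙ F'') X' a').mpr
      (h X' a' hX' ((range_le_stabilizer_iff H' F'' X' a').mp hle)) hg

theorem exact_iff :
    (Function.Surjective (Pi1X.autWhisker H (H' ⋙ F'')) ∧
      (∀ σ : Aut F'', Pi1X.autWhisker H (H' ⋙ F'') (Pi1X.autWhisker H' F'' σ) = 1) ∧
      (Pi1X.autWhisker H (H' ⋙ F'')).ker =
        (Subgroup.normalClosure (Set.range (Pi1X.autWhisker H' F''))).topologicalClosure) ↔
    ((H.Full ∧ H.Faithful) ∧
      ∀ X' : C', (∃ X : C, Nonempty (H.obj X ≅ X')) ↔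
        ∃ n : ℕ, Nonempty (H'.obj X' ≅ ∐ fun _ : Fin n => ⊤_ C'')) := by
  set u := Pi1X.autWhisker H (H' ⋙ F'') with hu
  set u' := Pi1X.autWhisker H' F'' with hu'
  set N := (Subgroup.normalClosure (Set.range u')).topologicalClosure with hN
  constructor
  · rintro ⟨hs, ht, hk⟩
    obtain ⟨hfull, hfaith⟩ := (surjective_iff_fullyFaithful H (H' ⋙ F'')).mp hs
    refine ⟨⟨hfull, hfaith⟩, fun X' => ⟨?_, ?_⟩⟩
    · rintro ⟨X, ⟨e⟩⟩
      obtain ⟨n, ⟨e'⟩⟩ := (comp_trivial_iff H H' F'').mp ht X
      exact ⟨n, ⟨(H'.mapIso e).symm ≪≫ e'⟩⟩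
    · intro hsplit
      have htriv := (split_iff F'' _).mp hsplit
      let K : Subgroup (Aut (H' ⋙ F'')) :=
        (MulAction.toPermHom (Aut (H' ⋙ F'')) ((H' ⋙ F'').obj X')).ker
      have hK : ∀ g, g ∈ K ↔ ∀ x : (H' ⋙ F'').obj X', g • x = x := fun g =>
        ⟨fun h x => Equiv.ext_iff.mp h x, fun h => Equiv.ext h⟩
      have hKc : IsClosed (K : Set (Aut (H' ⋙ F''))) := by
        have : (K : Set (Aut (H' ⋙ F''))) =
            ⋂ x : (H' ⋙ F'').obj X', (MulAction.stabilizer (Aut (H' ⋙ F'')) x : Set (Aut (H' ⋙ F''))) := by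
          ext g
          simp only [SetLike.mem_coe, Set.mem_iInter, MulAction.mem_stabilizer_iff, hK]
        rw [this]
        exact isClosed_iInter fun x =>
          Subgroup.isClosed_of_isOpen _ (stabilizer_isOpen (Aut (H' ⋙ F'')) x)
      have hker : u.ker ≤ K := by
        rw [hk]
        refine Subgroup.topologicalClosure_minimal _ (Subgroup.normalClosure_le_normal ?_) hKc
        rintro _ ⟨σ, rfl⟩
        exact (hK _).mpr fun x => htriv σ x
      choose r hr using hs
      have hwd : ∀ g g' (x : (H' ⋙ F'').obj X'), u g = u g' → g • x = g' • x := by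
        intro g g' x hgg
        have : g'⁻¹ * g ∈ u.ker := by
          rw [MonoidHom.mem_ker, map_mul, map_inv, hgg, inv_mul_cancel]
        have := (hK _).mp (hker this) x
        rwa [mul_smul, inv_smul_eq_iff] at this
      letI : MulAction (Aut (H ⋙ H' ⋙ F'')) ((H' ⋙ F'').obj X') :=
        { smul := fun τ x => r τ • x
          one_smul := fun x => by
            show r 1 • x = x
            rw [hwd (r 1) 1 x (by rw [hr, map_one]), one_smul]
          mul_smul := fun a b x => by
            show r (a * b) • x = r a • r b • x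
            rw [← mul_smul]
            exact hwd _ _ x (by rw [map_mul, hr, hr, hr]) }
      obtain ⟨X, e, he⟩ := exists_obj_of_action (H ⋙ H' ⋙ F'') ((H' ⋙ F'').obj X') (fun x => by
        have hq : Topology.IsQuotientMap u :=
          (continuous_autWhisker H (H' ⋙ F'')).isClosedMap.isQuotientMap
            (continuous_autWhisker H (H' ⋙ F'')) (fun τ => ⟨r τ, hr τ⟩)
        rw [← hq.isOpen_preimage]
        have : u ⁻¹' (MulAction.stabilizer (Aut (H ⋙ H' ⋙ F'')) x : Set (Aut (H ⋙ H' ⋙ F''))) =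
            (MulAction.stabilizer (Aut (H' ⋙ F'')) x : Set (Aut (H' ⋙ F''))) := by
          ext g
          simp only [Set.mem_preimage, SetLike.mem_coe, MulAction.mem_stabilizer_iff]
          show r (u g) • x = x ↔ g • x = x
          rw [hwd (r (u g)) g x (hr _)]
        rw [this]
        exact stabilizer_isOpen (Aut (H' ⋙ F'')) x)
      obtain ⟨f, hf⟩ := exists_hom_of_equivariant (H' ⋙ F'') (X := H.obj X) (Y := X') e (by
        intro g x
        have h1 := he (u g) x
        have h2 : u g • e x = g • e x := hwd (r (u g)) g (e x) (hr _)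
        exact h1.trans h2)
      have : IsIso f := isIso_of_bijective_fiber (H' ⋙ F'') f (by
        rw [show (⇑(ConcreteCategory.hom ((H' ⋙ F'').map f))) = ⇑e from funext hf]
        exact e.bijective)
      exact ⟨X, ⟨asIso f⟩⟩
  · rintro ⟨hff, hiff⟩
    have hs := (surjective_iff_fullyFaithful H (H' ⋙ F'')).mpr hff
    have ht := (comp_trivial_iff H H' F'').mpr fun X => (hiff (H.obj X)).mp ⟨X, ⟨Iso.refl _⟩⟩
    refine ⟨hs, ht, le_antisymm ?_ ?_⟩
    · intro g hg
      refine mem_of_forall_open (Subgroup.isClosed_topologicalClosure _) fun U hU hle => ?_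
      obtain ⟨X', _, a, rfl⟩ := exists_connected_stabilizer_eq (H' ⋙ F'') U hU
      obtain ⟨X, ⟨e⟩⟩ := (hiff X').mpr ((normalClosure_le_stabilizer_iff H' F'' X' a).mp (by
        rw [MonoidHom.coe_range]
        exact (Subgroup.le_topologicalClosure _).trans hle))
      rw [MulAction.mem_stabilizer_iff]
      exact ker_fixes_of_dominated H (H' ⋙ F'') (Y' := X') (X' := X') e.inv (𝟙 X')
        (fun x => ⟨x, by simp⟩) hg a
    · refine Subgroup.topologicalClosure_minimal _ (Subgroup.normalClosure_le_normal ?_)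
        (isClosed_ker_autWhisker H (H' ⋙ F''))
      rintro _ ⟨σ, rfl⟩
      exact ht σ

end Groth.Pi1Galois
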